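import Cfsg.Agent.DS.Defs

/-!
# Solvable linear groups of small degree, I: flags (helper19)

`Irr ρ` : the representation `ρ` is irreducible (or zero).  `Uni ρ Y t` : the subgroup `Y` acts trivially on the factors of a
chain of subspaces of length `t`.  `IB n k` : the `k`-th derived subgroup of a finite solvable group acts trivially on an
irreducible module of dimension `n` over an algebraically closed field; `SB n k` : the same for dimension at most `n` over any
field; `LB n k` : the same for all modules of dimension at most `n` over any field.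
-/

set_option autoImplicit false

namespace Cfsg.Agent.DS.Lin

open Cfsg.Agent.H936 Module

section basic

variable {K V X : Type*} [Field K] [AddCommGroup V] [Module K V] [Group X]

/-- irreducible (or zero) -/
def Irr (ρ : X →* Module.End K V) : Prop :=
  ∀ W : Submodule K V, (∀ x, ∀ v ∈ W, ρ x v ∈ W) → W = ⊥ ∨ W = ⊤

/-- `Y` acts trivially on the factors of a chain of length `t` -/
def Uni (ρ : X →* Module.End K V) (Y : Subgroup X) (t : ℕ) : Prop :=
  ∃ W : ℕ → Submodule K V, W 0 = ⊤ ∧ W t = ⊥ ∧ Antitone W ∧ ∀ j, ∀ y ∈ Y, ∀ v ∈ W j, ρ y v - v ∈ W (j + 1)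

theorem Uni.mono {ρ : X →* Module.End K V} {Y Y' : Subgroup X} {t : ℕ} (h : Uni ρ Y t) (hY : Y' ≤ Y) : Uni ρ Y' t := by
  obtain ⟨W, h0, ht, ha, hW⟩ := h
  exact ⟨W, h0, ht, ha, fun j y hy => hW j y (hY hy)⟩

theorem apply_inv_apply (ρ : X →* Module.End K V) (x : X) (v : V) : ρ x (ρ x⁻¹ v) = v := by
  rw [← Module.End.mul_apply, ← map_mul, mul_inv_cancel, map_one, Module.End.one_apply]

theorem inv_apply_apply (ρ : X →* Module.End K V) (x : X) (v : V) : ρ x⁻¹ (ρ x v) = v := by
  rw [← Module.End.mul_apply, ← map_mul, inv_mul_cancel, map_one, Module.End.one_apply]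

theorem apply_mul (ρ : X →* Module.End K V) (x y : X) (v : V) : ρ (x * y) v = ρ x (ρ y v) := by
  rw [map_mul, Module.End.mul_apply]

/-- the fixed space of a normal subgroup is invariant -/
theorem Irr.eq_one_of_fixed {ρ : X →* Module.End K V} (h : Irr ρ) (Y : Subgroup X) [hY : Y.Normal] {v : V} (hv : v ≠ 0)
    (hf : ∀ y ∈ Y, ρ y v = v) : ∀ y ∈ Y, ρ y = 1 := by
  let W : Submodule K V :=
    { carrier := {w | ∀ y ∈ Y, ρ y w = w}
      add_mem' := fun {a b} ha hb y hy => by rw [map_add, ha y hy, hb y hy]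
      zero_mem' := fun y _ => map_zero _
      smul_mem' := fun c a ha y hy => by rw [map_smul, ha y hy] }
  have hW : ∀ x, ∀ w ∈ W, ρ x w ∈ W := by
    intro x w hw y hy
    have h1 := hw _ (hY.conj_mem' y hy x)
    rw [apply_mul, apply_mul] at h1
    have h2 := congrArg (ρ x) h1
    rwa [apply_inv_apply] at h2
  rcases h W hW with h1 | h1
  · have h2 : v ∈ W := hf
    rw [h1, Submodule.mem_bot] at h2
    exact absurd h2 hv
  · intro y hy
    ext w
    have h2 : w ∈ W := by rw [h1]; trivial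
    exact h2 y hy

theorem Uni.eq_one_of_irr {ρ : X →* Module.End K V} {Y : Subgroup X} [Y.Normal] {t : ℕ} (h : Uni ρ Y t) (hi : Irr ρ) :
    ∀ y ∈ Y, ρ y = 1 := by
  obtain ⟨W, h0, ht, -, hW⟩ := h
  by_cases hf : ∃ v : V, v ≠ 0 ∧ ∀ y ∈ Y, ρ y v = v
  · obtain ⟨v, hv, hf⟩ := hf
    exact hi.eq_one_of_fixed Y hv hf
  · push Not at hf
    have h1 : ∀ i ≤ t, W (t - i) = ⊥ := by
      intro i
      induction i with
      | zero => intro _; exact ht
      | succ i ih =>
        intro hi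
        have h2 := ih (by omega)
        rw [eq_bot_iff]
        intro v hv
        rw [Submodule.mem_bot]
        by_contra hv0
        obtain ⟨y, hy, hyv⟩ := hf v hv0
        have h3 := hW _ y hy v hv
        rw [show t - (i + 1) + 1 = t - i by omega, h2, Submodule.mem_bot, sub_eq_zero] at h3
        exact hyv h3
    have h2 := h1 t le_rfl
    rw [Nat.sub_self, h0] at h2
    intro y _
    ext v
    have h3 : ∀ w : V, w = 0 := fun w => by
      rw [← Submodule.mem_bot K, ← h2]; trivial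
    rw [h3 (ρ y v), h3 ((1 : Module.End K V) v)]

/-- the derived series of a group acting trivially on the factors of a chain -/
theorem Uni.eq_one {ρ : X →* Module.End K V} {k t c : ℕ} (h : Uni ρ (derivedSeries X k) t) (hc : t ≤ 2 ^ c) :
    ∀ x ∈ derivedSeries X (k + c), ρ x = 1 := by
  obtain ⟨W, h0, ht, ha, hW⟩ := h
  have hinv : ∀ j, ∀ y ∈ derivedSeries X k, ∀ v ∈ W j, ρ y v ∈ W j := by
    intro j y hy v hv
    have h1 := (W j).add_mem (ha (Nat.le_succ j) (hW j y hy v hv)) hv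
    rwa [sub_add_cancel] at h1
  let Y : ℕ → Subgroup X := fun i =>
    { carrier := {x | x ∈ derivedSeries X k ∧ ∀ j, ∀ v ∈ W j, ρ x v - v ∈ W (j + i)}
      one_mem' := ⟨one_mem _, fun j v _ => by simp⟩
      mul_mem' := by
        rintro a b ⟨ha1, ha2⟩ ⟨hb1, hb2⟩
        refine ⟨mul_mem ha1 hb1, fun j v hv => ?_⟩
        have h1 := (W (j + i)).add_mem (hinv _ a ha1 _ (hb2 j v hv)) (ha2 j v hv)
        rwa [map_sub, sub_add_sub_cancel, ← apply_mul] at h1
      inv_mem' := by
        rintro a ⟨ha1, ha2⟩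
        refine ⟨inv_mem ha1, fun j v hv => ?_⟩
        have h1 := (W (j + i)).neg_mem (hinv _ a⁻¹ (inv_mem ha1) _ (ha2 j v hv))
        rwa [map_sub, inv_apply_apply, neg_sub] at h1 }
  have h1 : ∀ i, derivedSeries X (k + i) ≤ Y (2 ^ i) := by
    intro i
    induction i with
    | zero => exact fun x hx => ⟨hx, fun j v hv => hW j x hx v hv⟩
    | succ i ih =>
      rw [← add_assoc, derivedSeries_succ, Subgroup.commutator_le]
      intro a ha' b hb'
      obtain ⟨ha1, ha2⟩ := ih ha'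
      obtain ⟨hb1, hb2⟩ := ih hb'
      refine ⟨mul_mem (mul_mem (mul_mem ha1 hb1) (inv_mem ha1)) (inv_mem hb1), fun j v hv => ?_⟩
      have h2 : ρ a⁻¹ (ρ b⁻¹ v) ∈ W j := hinv _ _ (inv_mem ha1) _ (hinv _ _ (inv_mem hb1) _ hv)
      set w := ρ a⁻¹ (ρ b⁻¹ v) with hw
      have h3 : v = ρ b (ρ a w) := by rw [hw, apply_inv_apply, apply_inv_apply]
      have h4 := ha2 _ _ (hb2 j w h2)
      have h5 := hb2 _ _ (ha2 j w h2)
      have h6 := (W (j + 2 ^ i + 2 ^ i)).sub_mem h4 h5
      rw [commutatorElement_def, apply_mul, apply_mul, apply_mul, ← hw, pow_succ, mul_two, ← add_assoc]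
      have h7 : ρ a (ρ b w) - v = ρ a (ρ b w - w) - (ρ b w - w) - (ρ b (ρ a w - w) - (ρ a w - w)) := by
        rw [map_sub, map_sub, ← h3]; abel
      rw [h7]
      exact h6
  intro x hx
  ext v
  have h2 := (h1 c hx).2 0 v (by rw [h0]; trivial)
  have h3 := ha (show t ≤ 0 + 2 ^ c by omega) h2
  rwa [ht, Submodule.mem_bot, sub_eq_zero] at h3

/-- restriction to an invariant subspace -/
def res (ρ : X →* Module.End K V) (W : Submodule K V) (hW : ∀ x, ∀ v ∈ W, ρ x v ∈ W) : X →* Module.End K W where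
  toFun x := (ρ x).restrict (hW x)
  map_one' := by ext v; simp
  map_mul' x y := by ext v; simp

theorem res_apply (ρ : X →* Module.End K V) (W : Submodule K V) (hW : ∀ x, ∀ v ∈ W, ρ x v ∈ W) (x : X) (v : W) :
    (res ρ W hW x v : V) = ρ x v := rfl

/-- the quotient by an invariant subspace -/
def quo (ρ : X →* Module.End K V) (W : Submodule K V) (hW : ∀ x, ∀ v ∈ W, ρ x v ∈ W) : X →* Module.End K (V ⧸ W) where
  toFun x := W.mapQ W (ρ x) (hW x)
  map_one' := by ext v; simp
  map_mul' x y := by ext v; simp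

theorem quo_apply (ρ : X →* Module.End K V) (W : Submodule K V) (hW : ∀ x, ∀ v ∈ W, ρ x v ∈ W) (x : X) (v : V) :
    quo ρ W hW x (W.mkQ v) = W.mkQ (ρ x v) := rfl

/-- a minimal invariant subspace -/
theorem exists_min [FiniteDimensional K V] [Nontrivial V] {ι : Type*} (f : ι → Module.End K V) :
    ∃ W : Submodule K V, W ≠ ⊥ ∧ (∀ x, ∀ v ∈ W, f x v ∈ W) ∧
      ∀ W' ≤ W, (∀ x, ∀ v ∈ W', f x v ∈ W') → W' = ⊥ ∨ W' = W := by
  obtain ⟨W, ⟨h0, hW⟩, hmin⟩ := WellFounded.has_min (wellFounded_lt (α := Submodule K V))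
    {W : Submodule K V | W ≠ ⊥ ∧ ∀ x, ∀ v ∈ W, f x v ∈ W} ⟨⊤, top_ne_bot, fun _ _ _ => trivial⟩
  refine ⟨W, h0, hW, fun W' hle hW' => ?_⟩
  by_cases h : W' = ⊥
  · exact Or.inl h
  · exact Or.inr (eq_of_le_of_not_lt hle (hmin W' ⟨h, hW'⟩))

theorem irr_res {ρ : X →* Module.End K V} {W : Submodule K V} (hW : ∀ x, ∀ v ∈ W, ρ x v ∈ W)
    (hmin : ∀ W' ≤ W, (∀ x, ∀ v ∈ W', ρ x v ∈ W') → W' = ⊥ ∨ W' = W) : Irr (res ρ W hW) := by
  intro U hU
  rcases hmin (U.map W.subtype) (Submodule.map_subtype_le W U) (by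
    rintro x _ ⟨u, hu, rfl⟩
    exact ⟨_, hU x u hu, rfl⟩) with h | h
  · left
    apply Submodule.map_injective_of_injective W.injective_subtype
    rw [h, Submodule.map_bot]
  · right
    apply Submodule.map_injective_of_injective W.injective_subtype
    rw [h, Submodule.map_subtype_top]

end basic

/-- irreducible modules of dimension `n` over algebraically closed fields -/
def IB (n k : ℕ) : Prop :=
  ∀ (K V X : Type) [Field K] [IsAlgClosed K] [AddCommGroup V] [Module K V] [FiniteDimensional K V] [Group X] [Finite X],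
    Group.IsSolvable X → ∀ ρ : X →* Module.End K V, Irr ρ → finrank K V = n → ∀ x ∈ derivedSeries X k, ρ x = 1

/-- irreducible modules of dimension at most `n` over any field -/
def SB (n k : ℕ) : Prop :=
  ∀ (K V X : Type) [Field K] [AddCommGroup V] [Module K V] [FiniteDimensional K V] [Group X] [Finite X],
    Group.IsSolvable X → ∀ ρ : X →* Module.End K V, Irr ρ → finrank K V ≤ n → ∀ x ∈ derivedSeries X k, ρ x = 1

/-- all modules of dimension at most `n` over any field -/
def LB (n k : ℕ) : Prop :=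
  ∀ (K V X : Type) [Field K] [AddCommGroup V] [Module K V] [FiniteDimensional K V] [Group X] [Finite X],
    Group.IsSolvable X → ∀ ρ : X →* Module.End K V, finrank K V ≤ n → ∀ x ∈ derivedSeries X k, ρ x = 1

theorem IB.mono {n k m : ℕ} (h : IB n k) (hm : k ≤ m) : IB n m :=
  fun K V X _ _ _ _ _ _ _ hX ρ hi hn x hx => h K V X hX ρ hi hn x (derivedSeries_antitone X hm hx)

theorem SB.mono {n k n' m : ℕ} (h : SB n k) (hn' : n' ≤ n) (hm : k ≤ m) : SB n' m :=
  fun K V X _ _ _ _ _ _ hX ρ hi hn x hx => h K V X hX ρ hi (hn.trans hn') x (derivedSeries_antitone X hm hx)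

theorem LB.mono {n k n' m : ℕ} (h : LB n k) (hn' : n' ≤ n) (hm : k ≤ m) : LB n' m :=
  fun K V X _ _ _ _ _ _ hX ρ hn x hx => h K V X hX ρ (hn.trans hn') x (derivedSeries_antitone X hm hx)

/-- composition series -/
theorem flag_closed {N : ℕ} {τ : ℕ → ℕ} (hτ : Monotone τ) (hI : ∀ m, 1 ≤ m → m ≤ N → IB m (τ m))
    {K X : Type} [Field K] [IsAlgClosed K] [Group X] [Finite X] (hX : Group.IsSolvable X) (n : ℕ) :
    ∀ (V : Type) [AddCommGroup V] [Module K V] [FiniteDimensional K V] (ρ : X →* Module.End K V), finrank K V = n → n ≤ N →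
      ∃ m t, 1 ≤ m ∧ m ≤ max n 1 ∧ t + m ≤ n + 1 ∧ Uni ρ (derivedSeries X (τ m)) t := by
  induction n using Nat.strong_induction_on with
  | _ n ih =>
    intro V _ _ _ ρ hn hN
    rcases subsingleton_or_nontrivial V with hV | hV
    · refine ⟨1, 0, le_rfl, le_max_right _ _, by omega, fun _ => ⊤, rfl, Subsingleton.elim _ _, fun _ _ _ => le_rfl,
        fun _ _ _ _ _ => trivial⟩
    obtain ⟨W, h0, hW, hmin⟩ := exists_min (fun x => ρ x)
    have h1 : 1 ≤ finrank K W := Submodule.one_le_finrank_iff.2 h0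
    have h2 : finrank K (V ⧸ W) + finrank K W = n := by rw [← hn]; exact W.finrank_quotient_add_finrank
    obtain ⟨m, t, hm1, hm2, hm3, U, u0, ut, ua, hU⟩ := ih _ (by omega) (V ⧸ W) (quo ρ W hW) rfl (by omega)
    have h3 := hI _ h1 (by omega) K W X hX (res ρ W hW) (irr_res hW hmin) rfl
    refine ⟨max m (finrank K W), t + 1, le_max_of_le_left hm1, by omega, by omega,
      fun j => if j ≤ t then (U j).comap W.mkQ else ⊥, ?_, ?_, ?_, ?_⟩
    · simp [u0]
    · simp
    · intro i j hij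
      dsimp only
      split_ifs with h4 h5
      · exact Submodule.comap_mono (ua hij)
      · omega
      · exact bot_le
      · exact le_rfl
    · intro j y hy v hv
      dsimp only at hv ⊢
      by_cases h4 : j + 1 ≤ t
      · rw [if_pos (by omega)] at hv
        rw [if_pos h4, Submodule.mem_comap, map_sub, ← quo_apply ρ W hW]
        exact hU j y (derivedSeries_antitone X (hτ (le_max_left _ _)) hy) _ hv
      rw [if_neg h4]
      by_cases h5 : j ≤ t
      · obtain rfl : j = t := by omega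
        rw [if_pos h5, ut, Submodule.comap_bot, Submodule.ker_mkQ] at hv
        have h6 := h3 y (derivedSeries_antitone X (hτ (le_max_right _ _)) hy)
        have h7 := res_apply ρ W hW y ⟨v, hv⟩
        rw [h6] at h7
        rw [Submodule.mem_bot, sub_eq_zero]
        exact h7.symm
      · rw [if_neg h5, Submodule.mem_bot] at hv
        rw [hv, map_zero, sub_zero, Submodule.mem_bot]

open TensorProduct in
/-- composition series after extension of scalars -/
theorem flag {N : ℕ} {τ : ℕ → ℕ} (hτ : Monotone τ) (hI : ∀ m, 1 ≤ m → m ≤ N → IB m (τ m))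
    {F X : Type} [Field F] [Group X] [Finite X] (hX : Group.IsSolvable X)
    {V : Type} [AddCommGroup V] [Module F V] [FiniteDimensional F V] (ρ : X →* Module.End F V) (hN : finrank F V ≤ N) :
    ∃ m t, 1 ≤ m ∧ m ≤ max (finrank F V) 1 ∧ t + m ≤ finrank F V + 1 ∧ Uni ρ (derivedSeries X (τ m)) t := by
  let K := AlgebraicClosure F
  let ρ' : X →* Module.End K (K ⊗[F] V) := (Module.End.baseChangeHom F K V).toMonoidHom.comp ρ
  obtain ⟨m, t, h1, h2, h3, U, u0, ut, ua, hU⟩ := flag_closed hτ hI hX _ (K ⊗[F] V) ρ' Module.finrank_baseChange hN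
  refine ⟨m, t, h1, h2, h3, fun j => ((U j).restrictScalars F).comap (TensorProduct.mk F K V 1), ?_, ?_, ?_, ?_⟩
  · simp [u0]
  · dsimp only
    rw [ut, Submodule.restrictScalars_bot, Submodule.comap_bot, LinearMap.ker_eq_bot]
    exact Module.Flat.tensorProduct_mk_injective F V K
  · exact fun i j hij v hv => ua hij hv
  · intro j y hy v hv
    have h4 := hU j y hy _ hv
    rw [Submodule.mem_comap, map_sub]
    exact h4

theorem sb_of {N : ℕ} {τ : ℕ → ℕ} (hτ : Monotone τ) (h1 : 1 ≤ N) (hI : ∀ m, 1 ≤ m → m ≤ N → IB m (τ m)) : SB N (τ N) := by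
  intro F V X _ _ _ _ _ _ hX ρ hi hn
  obtain ⟨m, t, -, h2, -, hU⟩ := flag hτ hI hX ρ hn
  exact (hU.mono (derivedSeries_antitone X (hτ (by omega)))).eq_one_of_irr hi

theorem lb_of {N k : ℕ} {τ : ℕ → ℕ} (hτ : Monotone τ) (h1 : 1 ≤ N) (hI : ∀ m, 1 ≤ m → m ≤ N → IB m (τ m))
    (hk : ∀ m ≤ N, 1 ≤ m → τ m ≤ k ∧ N + 1 - m ≤ 2 ^ (k - τ m)) : LB N k := by
  intro F V X _ _ _ _ _ _ hX ρ hn x hx
  obtain ⟨m, t, h0, h2, h3, hU⟩ := flag hτ hI hX ρ hn
  obtain ⟨h4, h5⟩ := hk m (by omega) h0
  refine hU.eq_one (c := k - τ m) (by omega) x ?_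
  rwa [Nat.add_sub_cancel' h4]

end Cfsg.Agent.DS.Lin
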