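import Cfsg.Agent.DS.Lin.Prim
import Cfsg.Agent.DS.D4.Form

/-!
# Solvable linear groups of small degree, V: the tables (helper19)

`irr_bound` : irreducible modules over any field, `tau = 1, 4, 5, 5, 6, 6, 6, 8` in dimension `1, …, 8`;
`lin_bound` : all modules over any field, `rhoT = 1, 4, 5, 6, 7, 7, 8, 8`;
`irr_eight` : the seventh derived subgroup acts by scalars on an irreducible module of dimension `8` over an algebraically
closed field.
-/

set_option autoImplicit false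
set_option maxHeartbeats 400000

namespace Cfsg.Agent.DS.Lin

open Module Cfsg.Agent.H936

/-- projective bound -/
def PB (n k : ℕ) : Prop :=
  ∀ (K V X : Type) [Field K] [IsAlgClosed K] [AddCommGroup V] [Module K V] [FiniteDimensional K V] [Group X] [Finite X],
    Group.IsSolvable X → ∀ ρ : X →* Module.End K V, Irr ρ → finrank K V = n → derivedSeries X k ≤ scal ρ

theorem dichotomy {n k : ℕ} (h1 : 1 ≤ n) (hn : n ≤ 24) (hβ : Beta n k) {K V X : Type} [Field K] [IsAlgClosed K]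
    [AddCommGroup V] [Module K V] [FiniteDimensional K V] [Group X] [Finite X] (hX : Group.IsSolvable X)
    {ρ : X →* Module.End K V} (hi : Irr ρ) (hV : finrank K V = n) : derivedSeries X (k + 1) ≤ scal ρ ∨
      ∃ t a, 2 ≤ t ∧ 1 ≤ a ∧ t * a ≤ n ∧ ∀ s e, (∀ m ≤ t, Gen.sTab m ≤ s) → LB a e →
        ∀ x ∈ derivedSeries X (s + e), ρ x = 1 := by
  subst hV
  have : Nontrivial V := Module.finrank_pos_iff.1 h1
  by_cases hp : ∀ N : Subgroup X, N.Normal → (∀ a ∈ N, ∀ b ∈ N, ρ a * ρ b = ρ b * ρ a) → N ≤ scal ρ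
  · exact Or.inl (prim_case hX hp hβ)
  · push Not at hp
    obtain ⟨N, hN, hc, hs⟩ := hp
    exact Or.inr (imp_case hX hi hn N hc hs)

theorem eq_one_of_scal {K V X : Type*} [Field K] [AddCommGroup V] [Module K V] [Group X] {ρ : X →* Module.End K V} {k : ℕ}
    (h : derivedSeries X k ≤ scal ρ) : ∀ x ∈ derivedSeries X (k + 1), ρ x = 1 := by
  have h1 : derivedSeries X (k + 1) ≤ ρ.ker := by
    rw [derivedSeries_succ, Subgroup.commutator_le]
    intro a ha b _
    have h2 : ρ a * ρ b = ρ b * ρ a := Tw.one_iff.1 (Tw.scal_left (h ha) b)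
    rw [MonoidHom.mem_ker, commutatorElement_def, map_mul, map_mul, map_mul, h2, mul_assoc (ρ b), ← map_mul, mul_inv_cancel,
      map_one, mul_one, ← map_mul, mul_inv_cancel, map_one]
  exact fun x hx => h1 hx

/-- the bounds for permutation groups -/
def sT (t : ℕ) : ℕ := [0, 0, 1, 2, 3, 3, 3, 3, 4].getD t 0

theorem sT_spec : ∀ t ≤ 8, ∀ m ≤ t, Gen.sTab m ≤ sT t := by decide

/-- irreducible modules -/
def tau (n : ℕ) : ℕ := [1, 1, 4, 5, 5, 6, 6, 6].getD n 8

/-- all modules -/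
def rhoT (n : ℕ) : ℕ := [1, 1, 4, 5, 6, 7, 7].getD n 8

theorem tau_mono : Monotone tau := by
  refine monotone_nat_of_le_succ fun n => ?_
  by_cases h : n ≤ 7
  · interval_cases n <;> decide
  · obtain ⟨m, rfl⟩ : ∃ m, n = m + 8 := ⟨n - 8, by omega⟩
    exact le_rfl

theorem ib_of {n k e : ℕ} (h1 : 1 ≤ n) (hn : n ≤ 8) (hβ : Beta n k) (hk : k + 2 ≤ e) (hL : ∀ a, 1 ≤ a → a < n → LB a (rhoT a))
    (he : ∀ t ≤ 8, ∀ a ≤ 8, 2 ≤ t → 1 ≤ a → t * a ≤ n → sT t + rhoT a ≤ e) : IB n e := by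
  intro K V X _ _ _ _ _ _ _ hX ρ hi hV x hx
  rcases dichotomy h1 (by omega) hβ hX hi hV with h | ⟨t, a, ht, ha, hta, h⟩
  · exact eq_one_of_scal h x (derivedSeries_antitone X hk hx)
  · have h2 : t ≤ 8 := by nlinarith
    exact h _ _ (sT_spec t h2) (hL a ha (by nlinarith)) x
      (derivedSeries_antitone X (he t h2 a (by nlinarith) ht ha hta) hx)

theorem ib_one : IB 1 1 := by
  intro K V X _ _ _ _ _ _ _ _ ρ _ hV
  refine eq_one_of_scal (k := 0) fun x _ => ?_
  obtain ⟨c, hc, -⟩ := LinearMap.existsUnique_eq_smul_id_of_finrank_eq_one hV (ρ x)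
  exact ⟨c, fun v => by rw [hc]; rfl⟩

theorem ib_lb (n : ℕ) (h1 : 1 ≤ n) (hn : n ≤ 8) : IB n (tau n) ∧ LB n (rhoT n) := by
  induction n using Nat.strong_induction_on with
  | _ n ih =>
    have hL : ∀ a, 1 ≤ a → a < n → LB a (rhoT a) := fun a ha h => (ih a h ha (by omega)).2
    have hI : IB n (tau n) := by
      interval_cases n
      · exact ib_one
      · exact ib_of h1 hn beta_two (by decide) hL (by decide)
      · exact ib_of h1 hn (beta_four.mono (by norm_num) le_rfl) (by decide) hL (by decide)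
      · exact ib_of h1 hn beta_four (by decide) hL (by decide)
      · exact ib_of h1 hn (beta_seven.mono (by norm_num) le_rfl) (by decide) hL (by decide)
      · exact ib_of h1 hn (beta_seven.mono (by norm_num) le_rfl) (by decide) hL (by decide)
      · exact ib_of h1 hn beta_seven (by decide) hL (by decide)
      · exact ib_of h1 hn beta_eight (by decide) hL (by decide)
    refine ⟨hI, lb_of tau_mono h1 (fun m hm hmn => ?_) ?_⟩
    · rcases hmn.eq_or_lt with rfl | h
      · exact hI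
      · exact (ih m h hm (by omega)).1
    · interval_cases n <;> decide

theorem lb {n : ℕ} (hn : n ≤ 8) : LB n (rhoT n) := by
  rcases Nat.eq_zero_or_pos n with rfl | h
  · exact (ib_lb 1 le_rfl (by norm_num)).2.mono (by norm_num) le_rfl
  · exact (ib_lb n h hn).2

theorem sb {n : ℕ} (hn : n ≤ 8) : SB n (tau n) := by
  have h : ∀ n, 1 ≤ n → n ≤ 8 → SB n (tau n) := fun n h1 hn =>
    sb_of tau_mono h1 fun m hm hmn => (ib_lb m hm (by omega)).1
  rcases Nat.eq_zero_or_pos n with rfl | h1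
  · exact (h 1 le_rfl (by norm_num)).mono (by norm_num) le_rfl
  · exact h n h1 hn

theorem pb_eight : PB 8 7 := by
  intro K V X _ _ _ _ _ _ _ hX ρ hi hV x hx
  rcases dichotomy (by norm_num) (by norm_num) beta_eight hX hi hV with h | ⟨t, a, ht, ha, hta, h⟩
  · exact h hx
  · have h2 : t ≤ 8 := by nlinarith
    have h3 : a ≤ 8 := by nlinarith
    have h4 : ∀ t ≤ 8, ∀ a ≤ 8, 2 ≤ t → 1 ≤ a → t * a ≤ 8 → sT t + rhoT a ≤ 7 := by decide
    have h5 := h _ _ (sT_spec t h2) (lb h3) x (derivedSeries_antitone X (h4 t h2 a h3 ht ha hta) hx)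
    exact ⟨1, fun v => by rw [h5, one_smul]; rfl⟩

section wrappers

variable {K V X : Type} [Field K] [AddCommGroup V] [Module K V] [FiniteDimensional K V] [Group X] [Finite X]

/-- irreducible modules over any field -/
theorem irr_bound (hX : Group.IsSolvable X) (ρ : X →* Module.End K V) (hi : Irr ρ) {n k : ℕ} (hn : n ≤ 8)
    (hV : finrank K V ≤ n) (hk : tau n ≤ k) : ∀ x ∈ derivedSeries X k, ρ x = 1 :=
  (sb hn).mono le_rfl hk K V X hX ρ hi hV

/-- all modules over any field -/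
theorem lin_bound (hX : Group.IsSolvable X) (ρ : X →* Module.End K V) {n k : ℕ} (hn : n ≤ 8)
    (hV : finrank K V ≤ n) (hk : rhoT n ≤ k) : ∀ x ∈ derivedSeries X k, ρ x = 1 :=
  (lb hn).mono le_rfl hk K V X hX ρ hV

/-- dimension eight, projectively -/
theorem irr_eight [IsAlgClosed K] (hX : Group.IsSolvable X) (ρ : X →* Module.End K V) (hi : Irr ρ) (hV : finrank K V = 8) :
    ∀ x ∈ derivedSeries X 7, ∃ c : K, ∀ v, ρ x v = c • v :=
  fun _ hx => pb_eight K V X hX ρ hi hV hx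

/-- a finite group with a faithful representation of degree at most `n ≤ 8` -/
theorem sd_of_end (ρ : X →* Module.End K V) (hρ : ∀ x, ρ x = 1 → x = 1) {n k : ℕ} (hn : n ≤ 8)
    (hV : finrank K V ≤ n) (hk : rhoT n ≤ k) : SD k X := by
  intro Y hY
  rw [eq_bot_iff]
  intro x hx
  exact Subtype.ext (hρ _ (lin_bound hY (ρ.comp Y.subtype) hn hV hk x hx))

theorem sd_of_equiv (ρ : X →* (V ≃ₗ[K] V)) (hρ : Function.Injective ρ) {n k : ℕ} (hn : n ≤ 8)
    (hV : finrank K V ≤ n) (hk : rhoT n ≤ k) : SD k X := by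
  refine sd_of_end (LinearEquiv.automorphismGroup.toLinearMapMonoidHom.comp ρ) (fun x hx => hρ ?_) hn hV hk
  rw [map_one]
  exact LinearEquiv.toLinearMap_injective hx

theorem sd_of_matrix {ι : Type} [Fintype ι] [DecidableEq ι] (ρ : X →* Matrix ι ι K) (hρ : ∀ x, ρ x = 1 → x = 1) {n k : ℕ}
    (hn : n ≤ 8) (hV : Fintype.card ι ≤ n) (hk : rhoT n ≤ k) : SD k X := by
  refine sd_of_end ((Matrix.toLinAlgEquiv' (R := K) (n := ι)).toMonoidHom.comp ρ) (fun x hx => hρ x ?_) hn
    (by rwa [Module.finrank_fintype_fun_eq_card]) hk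
  exact (map_eq_one_iff _ (Matrix.toLinAlgEquiv' (R := K) (n := ι)).injective).1 hx

theorem sd_of_gl {ι : Type} [Fintype ι] [DecidableEq ι] (ρ : X →* GL ι K) (hρ : Function.Injective ρ) {n k : ℕ}
    (hn : n ≤ 8) (hV : Fintype.card ι ≤ n) (hk : rhoT n ≤ k) : SD k X := by
  refine sd_of_matrix ((Units.coeHom _).comp ρ) (fun x hx => hρ ?_) hn hV hk
  rw [map_one]
  exact Units.ext hx

/-- actions on elementary abelian groups of rank at most `n ≤ 8` -/
theorem act_bound (hX : Group.IsSolvable X) {E : Type} [AddCommGroup E] [Finite E] (φ : X → E →+ E) (h1 : ∀ a, φ 1 a = a)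
    (h2 : ∀ x y a, φ (x * y) a = φ x (φ y a)) {p : ℕ} (hp : p.Prime) (he : ∀ a : E, p • a = 0) {n k : ℕ} (hn : n ≤ 8)
    (hE : Nat.card E ≤ p ^ n) (hk : rhoT n ≤ k) : ∀ x ∈ derivedSeries X k, ∀ a, φ x a = a := by
  have := Fact.mk hp
  obtain ⟨inst⟩ : Nonempty (Module (ZMod p) E) := ⟨AddCommGroup.zmodModule he⟩
  have : Module.Finite (ZMod p) E := Module.Finite.of_finite
  let ρ : X →* Module.End (ZMod p) E :=
    { toFun := fun x => (φ x).toZModLinearMap p
      map_one' := LinearMap.ext h1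
      map_mul' := fun x y => LinearMap.ext (h2 x y) }
  refine fun x hx a => LinearMap.congr_fun (lin_bound hX ρ hn ?_ hk x hx) a
  have h3 := Module.natCard_eq_pow_finrank (K := ZMod p) (V := E)
  rwa [h3, Nat.card_zmod, Nat.pow_le_pow_iff_right hp.one_lt] at hE

theorem sd_mulAut_comm {E : Type} [CommGroup E] [Finite E] {p : ℕ} (hp : p.Prime)
    (he : ∀ a : E, a ^ p = 1) {n k : ℕ} (hn : n ≤ 8) (hE : Nat.card E ≤ p ^ n) (hk : rhoT n ≤ k) : SD k (MulAut E) := by
  intro Y hY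
  rw [eq_bot_iff]
  intro x hx
  exact Subtype.ext (MulEquiv.ext fun a => act_bound hY (E := Additive E)
    (fun y => MonoidHom.toAdditive (y : MulAut E).toMonoidHom) (fun _ => rfl) (fun _ _ _ => rfl) hp
    (fun a => he a.toMul) hn hE hk x hx (Additive.ofMul a))

/-- automorphism groups of elementary abelian groups of rank at most `n ≤ 8` -/
theorem sd_mulAut {E : Type} [Group E] [Finite E] {p : ℕ} (hp : p.Prime) (hc : ∀ a b : E, a * b = b * a)
    (he : ∀ a : E, a ^ p = 1) {n k : ℕ} (hn : n ≤ 8) (hE : Nat.card E ≤ p ^ n) (hk : rhoT n ≤ k) : SD k (MulAut E) :=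
  @sd_mulAut_comm E { (inferInstance : Group E) with mul_comm := hc } _ p hp he n k hn hE hk

end wrappers

theorem irrB (K : Type) [Field K] {w : ℕ} (hw : w ≤ 8) {k : ℕ} (hk : tau w ≤ k) : D4.IrrB K w k :=
  fun _ _ _ _ _ _ _ hX ρ hV hi => irr_bound hX ρ hi hw hV.le hk

theorem irrP (K : Type) [Field K] [IsAlgClosed K] : D4.IrrP K 8 7 :=
  fun _ _ _ _ _ _ _ hX ρ hV hi => irr_eight hX ρ hi hV

end Cfsg.Agent.DS.Lin
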