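import Cfsg.Agent.DS.Lin.Main
import Cfsg.Agent.DS.D4.Main

/-!
# The box `BoxD4` (helper20's reduction with the bounds for solvable linear groups) (helper19)
-/

set_option autoImplicit false

namespace Cfsg.Agent.DS.Lin

theorem linB : D4.LinB := fun K _ _ =>
  ⟨fun w h1 h7 => irrB K (by omega) (by interval_cases w <;> decide), irrP K⟩

theorem boxD4 : Cl.BoxD4 := D4.boxD4_of linB

end Cfsg.Agent.DS.Lin
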