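import Cfsg.Agent.DS.Lin.Imp

/-!
# Solvable linear groups of small degree, III: alternating forms on finite abelian groups (helper19)
-/

set_option autoImplicit false
set_option maxHeartbeats 400000

namespace Cfsg.Agent.DS.Lin

open Module

/-- an alternating bimultiplicative map -/
structure Alt {E K : Type*} [AddCommGroup E] [Field K] (f : E → E → K) : Prop where
  right : ∀ u w w', f u (w + w') = f u w * f u w'
  left : ∀ u u' w, f (u + u') w = f u w * f u' w
  self : ∀ u, f u u = 1

namespace Alt

variable {E K : Type*} [AddCommGroup E] [Field K] {f : E → E → K}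

theorem zero_right (h : Alt f) (u : E) : f u 0 = 1 := by
  have h1 := h.right u u 0
  rwa [add_zero, h.self, one_mul, eq_comm] at h1

theorem zero_left (h : Alt f) (u : E) : f 0 u = 1 := by
  have h1 := h.left u 0 u
  rwa [add_zero, h.self, one_mul, eq_comm] at h1

theorem ne_zero (h : Alt f) (u w : E) : f u w ≠ 0 := by
  intro h0
  have h1 := h.right u w (-w)
  rw [add_neg_cancel, h.zero_right, h0, zero_mul] at h1
  exact one_ne_zero h1

theorem sub_right (h : Alt f) {u w w' : E} (e : f u w = f u w') : f u (w - w') = 1 := by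
  have h1 := h.right u (w - w') w'
  rw [sub_add_cancel, e] at h1
  exact (mul_eq_right₀ (h.ne_zero u w')).1 h1.symm

theorem sub_left (h : Alt f) {u u' w : E} (e : f u w = f u' w) : f (u - u') w = 1 := by
  have h1 := h.left (u - u') u' w
  rw [sub_add_cancel, e] at h1
  exact (mul_eq_right₀ (h.ne_zero u' w)).1 h1.symm

theorem symm (h : Alt f) {u w : E} (e : f u w = 1) : f w u = 1 := by
  have h1 := h.self (u + w)
  rwa [h.left, h.right, h.right, h.self, h.self, e, one_mul, one_mul, mul_one] at h1

/-- the orthogonal complement -/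
def perp (h : Alt f) (S : Set E) : AddSubgroup E where
  carrier := {w | ∀ u ∈ S, f u w = 1}
  add_mem' := fun {a b} ha hb u hu => by rw [h.right, ha u hu, hb u hu, one_mul]
  zero_mem' := fun u _ => h.zero_right u
  neg_mem' := fun {a} ha u hu => by
    have h1 := h.sub_right (u := u) (w := 0) (w' := a) (by rw [h.zero_right, ha u hu])
    rwa [zero_sub] at h1

theorem exists_max [Finite E] (h : Alt f) : ∃ B : AddSubgroup E, (∀ u ∈ B, ∀ w ∈ B, f u w = 1) ∧
    ∀ w, (∀ u ∈ B, f u w = 1) → w ∈ B := by
  obtain ⟨B, hB, hmax⟩ := WellFounded.has_min (wellFounded_gt (α := AddSubgroup E))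
    {B : AddSubgroup E | ∀ u ∈ B, ∀ w ∈ B, f u w = 1} ⟨⊥, fun u hu w _ => by
      rw [AddSubgroup.mem_bot.1 hu, h.zero_left]⟩
  refine ⟨B, hB, fun w hw => ?_⟩
  have h1 : ∀ u ∈ B ⊔ AddSubgroup.zmultiples w, u ∈ h.perp B ∧ f w u = 1 := by
    intro u hu
    have h2 : B ⊔ AddSubgroup.zmultiples w ≤ h.perp B ⊓ h.perp {w} := by
      refine sup_le (fun b hb => ⟨fun b' hb' => hB b' hb' b hb, ?_⟩) ((AddSubgroup.zmultiples_le).2 ⟨hw, ?_⟩)
      · rintro _ rfl
        exact h.symm (hw b hb)
      · rintro _ rfl
        exact h.self _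
    exact ⟨(h2 hu).1, (h2 hu).2 w rfl⟩
  have h2 : ∀ u ∈ B ⊔ AddSubgroup.zmultiples w, ∀ u' ∈ B ⊔ AddSubgroup.zmultiples w, f u u' = 1 := by
    intro u hu u' hu'
    have h3 : B ⊔ AddSubgroup.zmultiples w ≤ h.perp {u} := by
      refine sup_le (fun b hb => ?_) ((AddSubgroup.zmultiples_le).2 ?_)
      · rintro _ rfl
        exact h.symm ((h1 _ hu).1 b hb)
      · rintro _ rfl
        exact h.symm (h1 _ hu).2
    exact h3 hu' u rfl
  have h3 : B = B ⊔ AddSubgroup.zmultiples w := eq_of_le_of_not_lt le_sup_left (hmax _ h2)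
  rw [h3]
  exact AddSubgroup.mem_sup_right (AddSubgroup.mem_zmultiples w)

theorem card_le_index [Finite E] (h : Alt f) (hn : ∀ u, (∀ w, f u w = 1) → u = 0) {B : AddSubgroup E}
    (hB : ∀ u ∈ B, ∀ w ∈ B, f u w = 1) : Nat.card B ≤ B.index := by
  classical
  let φ : B → Multiplicative (E ⧸ B) →* K := fun b =>
    { toFun := fun q => Quotient.liftOn' q.toAdd (fun w => f b w) (by
        intro w w' hw
        rw [QuotientAddGroup.leftRel_apply] at hw
        have h1 := h.right b w (-w + w')
        rwa [hB _ b.2 _ hw, mul_one, add_neg_cancel_left, eq_comm] at h1)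
      map_one' := h.zero_right _
      map_mul' := by
        intro q q'
        obtain ⟨w, hw⟩ := QuotientAddGroup.mk_surjective q.toAdd
        obtain ⟨w', hw'⟩ := QuotientAddGroup.mk_surjective q'.toAdd
        rw [toAdd_mul, ← hw, ← hw']
        exact h.right b w w' }
  have h1 : Function.Injective φ := by
    intro b b' e
    apply Subtype.ext
    rw [← sub_eq_zero]
    refine hn _ fun w => h.sub_left ?_
    exact DFunLike.congr_fun e (Multiplicative.ofAdd (w : E ⧸ B))
  have h2 := ((linearIndependent_monoidHom (Multiplicative (E ⧸ B)) K).comp φ h1)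
  have := Fintype.ofFinite B
  have := Fintype.ofFinite (E ⧸ B)
  have h3 := h2.fintype_card_le_finrank
  rw [Module.finrank_fintype_fun_eq_card, Fintype.card_multiplicative] at h3
  rw [AddSubgroup.index, Nat.card_eq_fintype_card, Nat.card_eq_fintype_card]
  exact h3

/-- the order of a group of symplectic type is bounded by the degree -/
theorem card_le [Finite E] [IsAlgClosed K] (h : Alt f) (hn : ∀ u, (∀ w, f u w = 1) → u = 0) {V : Type*} [AddCommGroup V]
    [Module K V] [FiniteDimensional K V] [Nontrivial V] (T : E → Module.End K V) (hT : ∀ u, Function.Injective (T u))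
    (hc : ∀ u w, T u * T w = f u w • (T w * T u)) :
    ∃ t, t ≤ finrank K V ∧ t ∣ Nat.card E ∧ Nat.card E ≤ t * t := by
  obtain ⟨B, hB, hmax⟩ := h.exists_max
  refine ⟨B.index, ?_, B.index_dvd_card, ?_⟩
  · let g : B → Module.End K V := fun b => T b
    have hg : ∀ i j, g i * g j = g j * g i := fun i j => by
      simp only [g]
      rw [hc, hB _ i.2 _ j.2, one_smul]
    obtain ⟨v, hv, χ, hχ⟩ := exists_eigen g hg
    have h0 : ∀ u (x : V), T u x = 0 → x = 0 := fun u x hx => hT u (by rw [hx, map_zero])
    let ψ : E ⧸ B → B → K := fun q b => f b q.out * χ b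
    have h1 : Function.Injective ψ := by
      intro q q' e
      rw [← q.out_eq', ← q'.out_eq', QuotientAddGroup.eq, neg_add_eq_sub]
      refine hmax _ fun u hu => h.sub_right ?_
      have h2 : χ ⟨u, hu⟩ ≠ 0 := fun h3 => hv (h0 u v (by
        have h4 := hχ ⟨u, hu⟩
        rwa [h3, zero_smul] at h4))
      exact (mul_right_cancel₀ h2 (congrFun e ⟨u, hu⟩)).symm
    have h2 := ncard_mul_le (wt_indep g hg) (a := 1) (Set.finite_range ψ) (by
      rintro _ ⟨q, rfl⟩
      refine Submodule.one_le_finrank_iff.2 fun h3 => hv (h0 q.out v ?_)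
      rw [← Submodule.mem_bot K, ← h3, mem_wt]
      intro b
      have h4 := LinearMap.congr_fun (hc b q.out) v
      rw [Module.End.mul_apply, LinearMap.smul_apply, Module.End.mul_apply] at h4
      have h5 : T b v = χ b • v := hχ b
      rw [h5, map_smul, smul_smul] at h4
      exact h4)
    rwa [mul_one, Set.ncard_range_of_injective h1] at h2
  · rw [← B.card_mul_index]
    exact Nat.mul_le_mul_right _ (h.card_le_index hn hB)

theorem card_le_three [Finite E] (h9 : Nat.card E ∣ 9) {F : AddSubgroup E} (hF : F ≠ ⊤) : Nat.card F ≤ 3 := by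
  have h1 := F.card_mul_index
  have h2 : 1 < F.index := AddSubgroup.one_lt_index_of_ne_top hF
  have h3 : F.index ∣ 9 := F.index_dvd_card.trans h9
  have h4 := Nat.le_of_dvd (by norm_num) h3
  have h5 := Nat.le_of_dvd (by norm_num) h9
  have h6 : 3 ≤ F.index := by
    by_contra h7
    have h8 : F.index = 2 := by omega
    rw [h8] at h3
    omega
  nlinarith

/-- `SL₂(3)` has order `24` -/
theorem card_le_24 [Finite E] (h : Alt f) (h9 : Nat.card E ∣ 9) {a b : E} (hab : f a b ≠ 1) {Y : Type*} [Group Y] [Finite Y]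
    [DistribMulAction Y E] (hf : ∀ y : Y, (∀ u : E, y • u = u) → y = 1) (hY : ∀ (y : Y) u w, f (y • u) (y • w) = f u w) :
    Nat.card Y ≤ 24 := by
  classical
  have := Fintype.ofFinite Y
  have := Fintype.ofFinite E
  have ha : a ≠ 0 := by
    rintro rfl
    exact hab (h.zero_left b)
  have h1 : ∀ y : Y, y • a = a → y • b = b → y = 1 := by
    intro y hya hyb
    let F : AddSubgroup E :=
      { carrier := {u | y • u = u}
        add_mem' := fun {u w} hu hw => by
          change y • (u + w) = u + w
          rw [smul_add, hu, hw]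
        zero_mem' := smul_zero y
        neg_mem' := fun {u} hu => by
          change y • (-u) = -u
          rw [smul_neg, hu] }
    by_cases hF : F = ⊤
    · refine hf y fun u => ?_
      have h2 : u ∈ F := by rw [hF]; trivial
      exact h2
    exfalso
    have h2 := card_le_three h9 hF
    have h3 : Nat.card (F ⊓ h.perp {a} : AddSubgroup E) ∣ Nat.card F := AddSubgroup.card_dvd_of_le inf_le_left
    have h4 : Nat.card (F ⊓ h.perp {a} : AddSubgroup E) ≠ 1 := by
      rw [Ne, AddSubgroup.card_eq_one]
      intro h5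
      have h6 : a ∈ F ⊓ h.perp {a} := ⟨hya, by rintro _ rfl; exact h.self _⟩
      rw [h5, AddSubgroup.mem_bot] at h6
      exact ha h6
    have h5 : Nat.card (F ⊓ h.perp {a} : AddSubgroup E) ≠ Nat.card F := by
      intro h6
      have h7 := AddSubgroup.eq_of_le_of_card_ge (inf_le_left : F ⊓ h.perp {a} ≤ F) h6.ge
      have h8 : b ∈ F ⊓ h.perp {a} := by rw [h7]; exact hyb
      exact hab (h8.2 a rfl)
    have h6 : 0 < Nat.card F := Nat.card_pos
    have h7 := Nat.le_of_dvd h6 h3
    generalize Nat.card (F ⊓ h.perp {a} : AddSubgroup E) = c at h3 h4 h5 h7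
    generalize Nat.card F = d at h2 h3 h5 h6 h7
    interval_cases d <;> interval_cases c <;> omega
  have h2 := Finset.card_le_mul_card_image_of_maps_to (s := (Finset.univ : Finset Y)) (t := Finset.univ.erase (0 : E))
    (f := fun y => y • a) (fun y _ => Finset.mem_erase.2 ⟨(smul_ne_zero_iff_ne y).2 ha, Finset.mem_univ _⟩) 3 (by
      intro u _
      by_cases h3 : ∃ y₀ : Y, y₀ • a = u
      · obtain ⟨y₀, rfl⟩ := h3
        have h4 : h.perp {y₀ • a} ≠ ⊤ := by
          intro h5
          have h6 : y₀ • b ∈ h.perp {y₀ • a} := by rw [h5]; trivial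
          exact hab (by rw [← hY y₀]; exact h6 _ rfl)
        refine le_trans ?_ (card_le_three h9 h4)
        rw [← Nat.card_eq_finsetCard]
        refine Nat.card_le_card_of_injective (fun y => ⟨y.1 • b - y₀ • b, ?_⟩) ?_
        · rintro _ rfl
          refine h.sub_right ?_
          have h5 := hY y.1 a b
          rw [(Finset.mem_filter.1 y.2).2] at h5
          rw [hY y₀, h5]
        · intro y y' e
          have e1 : y.1 • b = y'.1 • b := sub_left_injective (congrArg Subtype.val e)
          have e2 : y.1 • a = y'.1 • a := (Finset.mem_filter.1 y.2).2.trans (Finset.mem_filter.1 y'.2).2.symm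
          apply Subtype.ext
          rw [← inv_mul_eq_one]
          exact h1 _ (by rw [mul_smul, ← e2, inv_smul_smul]) (by rw [mul_smul, ← e1, inv_smul_smul])
      · rw [Finset.card_eq_zero.2]
        · norm_num
        · rw [Finset.filter_eq_empty_iff]
          exact fun y _ e => h3 ⟨y, e⟩)
  rw [Finset.card_erase_of_mem (Finset.mem_univ _), Finset.card_univ, Finset.card_univ, ← Nat.card_eq_fintype_card,
    ← Nat.card_eq_fintype_card] at h2
  have h3 := Nat.le_of_dvd (by norm_num) h9
  omega

end Alt

end Cfsg.Agent.DS.Lin
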