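import Cfsg.Agent.DS.Lin.Uni
import Cfsg.Agent.DS.Gen.Perm

/-!
# Solvable linear groups of small degree, II: weight spaces and the imprimitive case (helper19)
-/

set_option autoImplicit false
set_option maxHeartbeats 400000

namespace Cfsg.Agent.DS.Lin

open Cfsg.Agent.H936 Module

section weights

variable {K V : Type*} [Field K] [AddCommGroup V] [Module K V] {ι : Type*}

/-- a common eigenvector -/
theorem exists_eigen [IsAlgClosed K] [FiniteDimensional K V] [Nontrivial V] (f : ι → Module.End K V)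
    (hc : ∀ i j, f i * f j = f j * f i) : ∃ v : V, v ≠ 0 ∧ ∃ χ : ι → K, ∀ i, f i v = χ i • v := by
  obtain ⟨W, h0, hW, hmin⟩ := exists_min f
  have hN : Nontrivial W := Submodule.nontrivial_iff_ne_bot.2 h0
  have h1 : ∀ i, ∃ c : K, ∀ v ∈ W, f i v = c • v := by
    intro i
    obtain ⟨c, hc'⟩ := Module.End.exists_eigenvalue ((f i).restrict (hW i))
    obtain ⟨w, hw⟩ := hc'.exists_hasEigenvector
    refine ⟨c, fun v hv => ?_⟩
    rcases hmin (W ⊓ (f i).eigenspace c) inf_le_left (by
      rintro j u ⟨hu1, hu2⟩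
      refine ⟨hW j u hu1, ?_⟩
      rw [SetLike.mem_coe, Module.End.mem_eigenspace_iff] at hu2 ⊢
      rw [← Module.End.mul_apply, hc, Module.End.mul_apply, hu2, map_smul]) with h | h
    · exfalso
      have h2 : (w : V) ∈ W ⊓ (f i).eigenspace c := by
        refine ⟨w.2, ?_⟩
        rw [SetLike.mem_coe, Module.End.mem_eigenspace_iff]
        exact congrArg Subtype.val hw.apply_eq_smul
      rw [h, Submodule.mem_bot] at h2
      exact hw.2 (Subtype.ext h2)
    · rw [← h] at hv
      exact Module.End.mem_eigenspace_iff.1 hv.2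
  choose χ hχ using h1
  obtain ⟨v, hv, hv0⟩ := Submodule.exists_mem_ne_zero_of_ne_bot h0
  exact ⟨v, hv0, χ, fun i => hχ i v hv⟩

/-- the weight space -/
def wt (f : ι → Module.End K V) (χ : ι → K) : Submodule K V := ⨅ i, (f i).eigenspace (χ i)

theorem mem_wt {f : ι → Module.End K V} {χ : ι → K} {v : V} : v ∈ wt f χ ↔ ∀ i, f i v = χ i • v := by
  simp only [wt, Submodule.mem_iInf, Module.End.mem_eigenspace_iff]

theorem wt_indep (f : ι → Module.End K V) (hc : ∀ i j, f i * f j = f j * f i) : iSupIndep (wt f) := by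
  refine (Module.End.independent_iInf_maxGenEigenspace_of_forall_mapsTo f fun i j φ =>
    Module.End.mapsTo_maxGenEigenspace_of_comm (hc j i) φ).mono fun χ => ?_
  exact iInf_mono fun i => (f i).eigenspace_le_maxGenEigenspace

theorem card_mul_le [FiniteDimensional K V] {κ : Type*} {E : κ → Submodule K V} (hE : iSupIndep E) {a : ℕ} (S : Finset κ)
    (h : ∀ χ ∈ S, a ≤ finrank K (E χ)) : S.card * a ≤ finrank K V := by
  classical
  refine le_trans ?_ (Submodule.finrank_le (S.sup E))
  induction S using Finset.induction_on with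
  | empty => simp
  | insert χ S hχ ih =>
    have h1 := ih fun ψ hψ => h ψ (Finset.mem_insert_of_mem hψ)
    have h2 := h χ (Finset.mem_insert_self _ _)
    have h3 : Disjoint (E χ) (S.sup E) := by
      rw [Finset.sup_eq_iSup]
      exact hE.disjoint_biSup (y := (S : Set κ)) hχ
    rw [Finset.card_insert_of_notMem hχ, Finset.sup_insert]
    have h4 := Submodule.finrank_sup_add_finrank_inf_eq (E χ) (S.sup E)
    rw [h3.eq_bot, finrank_bot] at h4
    nlinarith

theorem ncard_mul_le [FiniteDimensional K V] {κ : Type*} {E : κ → Submodule K V} (hE : iSupIndep E) {a : ℕ} {S : Set κ}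
    (hS : S.Finite) (h : ∀ χ ∈ S, a ≤ finrank K (E χ)) : S.ncard * a ≤ finrank K V := by
  rw [Set.ncard_eq_toFinset_card S hS]
  exact card_mul_le hE _ fun χ hχ => h χ (hS.mem_toFinset.1 hχ)

end weights

/-- the action on the functions on a normal subgroup -/
@[reducible] def cAct {X : Type*} [Group X] (N : Subgroup X) [N.Normal] (K : Type*) : MulAction X (N → K) where
  smul g χ := fun a => χ (MulAut.conjNormal g⁻¹ a)
  one_smul χ := by
    funext a
    change χ (MulAut.conjNormal (1 : X)⁻¹ a) = χ a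
    simp
  mul_smul g h χ := by
    funext a
    change χ (MulAut.conjNormal (g * h)⁻¹ a) = χ (MulAut.conjNormal h⁻¹ (MulAut.conjNormal g⁻¹ a))
    simp

/-- the imprimitive case -/
theorem imp_case {K V X : Type} [Field K] [IsAlgClosed K] [AddCommGroup V] [Module K V] [FiniteDimensional K V] [Nontrivial V]
    [Group X] [Finite X] (hX : Group.IsSolvable X) {ρ : X →* Module.End K V} (hi : Irr ρ) (h24 : finrank K V ≤ 24)
    (N : Subgroup X) [N.Normal] (hc : ∀ a ∈ N, ∀ b ∈ N, ρ a * ρ b = ρ b * ρ a) (hs : ¬ ∀ a ∈ N, ∃ c : K, ∀ v, ρ a v = c • v) :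
    ∃ t a, 2 ≤ t ∧ 1 ≤ a ∧ t * a ≤ finrank K V ∧ ∀ s k, (∀ m ≤ t, Gen.sTab m ≤ s) → LB a k →
      ∀ x ∈ derivedSeries X (s + k), ρ x = 1 := by
  let _ := cAct N K
  let f : N → Module.End K V := fun a => ρ a
  have hf : ∀ i j, f i * f j = f j * f i := fun i j => hc i i.2 j j.2
  obtain ⟨v, hv, χ, hχ⟩ := exists_eigen f hf
  have hm : ∀ (g : X) (ψ : N → K), ∀ w ∈ wt f ψ, ρ g w ∈ wt f (g • ψ) := by
    intro g ψ w hw
    rw [mem_wt] at hw ⊢
    intro a
    have h1 := hw (MulAut.conjNormal g⁻¹ a)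
    have h2 : f (MulAut.conjNormal g⁻¹ a) w = ρ g⁻¹ (ρ a (ρ g w)) := by
      simp only [f, MulAut.conjNormal_apply, inv_inv, apply_mul]
    have h3 := congrArg (ρ g) h1
    rw [h2, apply_inv_apply, map_smul] at h3
    exact h3
  have hv' : v ∈ wt f χ := mem_wt.2 hχ
  have ha : 1 ≤ finrank K (wt f χ) := by
    refine Submodule.one_le_finrank_iff.2 fun h => hv ?_
    rwa [h, Submodule.mem_bot] at hv'
  have hle : (MulAction.orbit X χ).ncard * finrank K (wt f χ) ≤ finrank K V := by
    refine ncard_mul_le (wt_indep f hf) (Set.finite_range _) ?_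
    rintro _ ⟨g, rfl⟩
    refine LinearMap.finrank_le_finrank_of_injective (f := (ρ g).restrict (hm g χ)) fun a b hab => Subtype.ext ?_
    have h1 := congrArg (fun z : wt f (g • χ) => ρ g⁻¹ (z : V)) hab
    simpa only [LinearMap.coe_restrict_apply, inv_apply_apply] using h1
  refine ⟨(MulAction.orbit X χ).ncard, finrank K (wt f χ), ?_, ha, hle, fun s k hs' hk => ?_⟩
  · by_contra h
    have h1 : ∀ g : X, g • χ = χ := fun g =>
      (Set.ncard_le_one (s := MulAction.orbit X χ) (Set.finite_range _)).1 (by omega) _ (MulAction.mem_orbit χ g) _ (MulAction.mem_orbit_self χ)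
    rcases hi (wt f χ) (fun g w hw => by simpa only [h1] using hm g χ w hw) with h2 | h2
    · rw [h2, Submodule.mem_bot] at hv'
      exact hv hv'
    · refine hs fun a ha' => ⟨χ ⟨a, ha'⟩, fun w => ?_⟩
      have h3 : w ∈ wt f χ := by rw [h2]; trivial
      exact mem_wt.1 h3 ⟨a, ha'⟩
  · have h1 : ∀ x ∈ derivedSeries X s, x • χ = χ := fun x hx =>
      Gen.smul_eq_of_orbit (n := (MulAction.orbit X χ).ncard) (by nlinarith) hs' hX le_rfl hx
    have h2 : ∀ y : derivedSeries X s, ∀ w ∈ wt f χ, (ρ.comp (derivedSeries X s).subtype) y w ∈ wt f χ := by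
      intro y w hw
      have h0 := hm y χ w hw
      rw [h1 y y.2] at h0
      exact h0
    have h3 := hk K (wt f χ) (derivedSeries X s) inferInstance (res _ _ h2) le_rfl
    refine hi.eq_one_of_fixed _ hv fun y hy => ?_
    obtain ⟨z, hz, rfl⟩ := derivedSeries_add_le (le_refl (derivedSeries X s)) k hy
    have h4 := res_apply _ _ h2 z ⟨v, hv'⟩
    rw [h3 z hz] at h4
    exact h4.symm

end Cfsg.Agent.DS.Lin
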