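import Cfsg.Agent.DS.Lin.Form
import Cfsg.Agent.DS.Ord.TabA
import Cfsg.Agent.H511.Wt.Affine

/-!
# Solvable linear groups of small degree, IV: the primitive case (helper19)
-/

set_option autoImplicit false
set_option maxHeartbeats 400000

namespace Cfsg.Agent.DS.Lin

open Module Cfsg.Agent.H511
open scoped commutatorElement

section tw

variable {K V X : Type*} [Field K] [AddCommGroup V] [Module K V] [Group X] (ρ : X →* Module.End K V)

/-- `x` and `m` commute up to the scalar `a` -/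
def Tw (a : K) (x m : X) : Prop := ρ x * ρ m = a • (ρ m * ρ x)

/-- the elements acting as scalars -/
def scal : Subgroup X where
  carrier := {x | ∃ c : K, ∀ v, ρ x v = c • v}
  one_mem' := ⟨1, fun v => by simp⟩
  mul_mem' := by
    rintro a b ⟨c, hc⟩ ⟨d, hd⟩
    exact ⟨c * d, fun v => by rw [apply_mul, hc, hd, smul_smul]⟩
  inv_mem' := by
    rintro a ⟨c, hc⟩
    refine ⟨c⁻¹, fun v => ?_⟩
    have h1 := apply_inv_apply ρ a v
    rw [hc] at h1
    by_cases h0 : c = 0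
    · rw [h0, zero_smul] at h1
      rw [← h1, map_zero, smul_zero]
    · rw [eq_inv_smul_iff₀ h0, h1]

theorem scal_normal : (scal ρ).Normal := by
  constructor
  rintro a ⟨c, hc⟩ g
  exact ⟨c, fun v => by rw [apply_mul, apply_mul, hc, map_smul, apply_inv_apply]⟩

/-- the elements commuting with `m` in the representation -/
def cm (m : X) : Subgroup X where
  carrier := {x | ρ x * ρ m = ρ m * ρ x}
  one_mem' := by simp
  mul_mem' := by
    intro a b (ha : _ = _) (hb : _ = _)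
    change _ = _
    rw [map_mul, mul_assoc, hb, ← mul_assoc, ha, mul_assoc]
  inv_mem' := by
    intro a (ha : _ = _)
    ext v
    have h1 := congrArg (ρ a⁻¹) (LinearMap.congr_fun ha (ρ a⁻¹ v))
    simp only [Module.End.mul_apply, inv_apply_apply, apply_inv_apply] at h1 ⊢
    exact h1.symm

variable {ρ}

theorem rho_injective (x : X) : Function.Injective (ρ x) := fun a b h => by
  rw [← inv_apply_apply ρ x a, h, inv_apply_apply]

theorem Tw.apply {a : K} {x m : X} (h : Tw ρ a x m) (v : V) : ρ x (ρ m v) = a • ρ m (ρ x v) :=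
  LinearMap.congr_fun h v

theorem Tw.of_apply {a : K} {x m : X} (h : ∀ v, ρ x (ρ m v) = a • ρ m (ρ x v)) : Tw ρ a x m := LinearMap.ext h

theorem Tw.unique [Nontrivial V] {a b : K} {x m : X} (h : Tw ρ a x m) (h' : Tw ρ b x m) : a = b := by
  obtain ⟨v, hv⟩ := exists_ne (0 : V)
  have h1 : ρ m (ρ x v) ≠ 0 := fun e => hv (rho_injective x (rho_injective m (by rw [e, map_zero, map_zero])))
  exact smul_left_injective K h1 ((h.apply v).symm.trans (h'.apply v))

theorem Tw.mul_left {a b : K} {x y m : X} (h : Tw ρ a x m) (h' : Tw ρ b y m) : Tw ρ (a * b) (x * y) m :=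
  Tw.of_apply fun v => by rw [apply_mul, h'.apply, map_smul, h.apply, apply_mul, smul_smul, mul_comm]

theorem Tw.mul_right {a b : K} {x m m' : X} (h : Tw ρ a x m) (h' : Tw ρ b x m') : Tw ρ (a * b) x (m * m') :=
  Tw.of_apply fun v => by rw [apply_mul, h.apply, h'.apply, map_smul, apply_mul, smul_smul]

theorem Tw.conj {a : K} {x m : X} (h : Tw ρ a x m) (g : X) : Tw ρ a (g * x * g⁻¹) (g * m * g⁻¹) :=
  Tw.of_apply fun v => by
    simp only [apply_mul, inv_apply_apply]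
    rw [h.apply, map_smul]

theorem Tw.self (x : X) : Tw ρ (1 : K) x x := by rw [Tw, one_smul]

theorem Tw.one_iff {x m : X} : Tw ρ (1 : K) x m ↔ x ∈ cm ρ m := by
  rw [Tw, one_smul]
  rfl

theorem Tw.scal_left {z : X} (hz : z ∈ scal ρ) (m : X) : Tw ρ (1 : K) z m := by
  obtain ⟨c, hc⟩ := hz
  exact Tw.of_apply fun v => by rw [hc, hc, map_smul, one_smul]

theorem Tw.scal_right {z : X} (hz : z ∈ scal ρ) (m : X) : Tw ρ (1 : K) m z := by
  obtain ⟨c, hc⟩ := hz
  exact Tw.of_apply fun v => by rw [hc, hc, map_smul, one_smul]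

theorem Tw.of_commutator {x m : X} (h : ⁅x, m⁆ ∈ scal ρ) : ∃ a : K, Tw ρ a x m := by
  obtain ⟨c, hc⟩ := h
  refine ⟨c, Tw.of_apply fun v => ?_⟩
  have h1 := hc (ρ m (ρ x v))
  rwa [commutatorElement_def, apply_mul, apply_mul, apply_mul, inv_apply_apply, inv_apply_apply] at h1

theorem Tw.div [Nontrivial V] {a : K} {x y m : X} (h : Tw ρ a x m) (h' : Tw ρ a y m) : x * y⁻¹ ∈ cm ρ m := by
  have h0 : a ≠ 0 := by
    rintro rfl
    obtain ⟨v, hv⟩ := exists_ne (0 : V)
    have h1 := h.apply v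
    rw [zero_smul] at h1
    exact hv (rho_injective m (rho_injective x (by rw [h1, map_zero, map_zero])))
  refine LinearMap.ext fun v => smul_right_injective V h0 ?_
  have h1 := congrArg (ρ y⁻¹) (h'.apply (ρ y⁻¹ v))
  rw [inv_apply_apply, apply_inv_apply, map_smul] at h1
  simp only [Module.End.mul_apply, apply_mul]
  rw [← h.apply, h1, map_smul]

end tw

/-- the bound needed for the chief factors of symplectic type -/
def Beta (n k : ℕ) : Prop :=
  ∀ (X E : Type) [Group X] [Finite X] [Group.IsSolvable X] [AddCommGroup E] [Finite E] [DistribMulAction X E],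
    Wt.Irr X E → ∀ q j s : ℕ, q.Prime → Nat.card E = q ^ j → j ≤ 2 * s → q ^ s ≤ n →
      (Nat.card E ∣ 9 → Nat.card (Wt.Im X E) ≤ 24) → Wt.DL X E k

/-- the primitive case -/
theorem prim_case {K V X : Type} [Field K] [IsAlgClosed K] [AddCommGroup V] [Module K V] [FiniteDimensional K V] [Nontrivial V]
    [Group X] [Finite X] (hX : Group.IsSolvable X) {ρ : X →* Module.End K V}
    (hp : ∀ N : Subgroup X, N.Normal → (∀ a ∈ N, ∀ b ∈ N, ρ a * ρ b = ρ b * ρ a) → N ≤ scal ρ) {k : ℕ}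
    (hβ : Beta (finrank K V) k) : derivedSeries X (k + 1) ≤ scal ρ := by
  have := scal_normal ρ
  by_contra hcon
  obtain ⟨M, ⟨hMn, hZM, hMD⟩, hmin'⟩ := WellFounded.has_min (wellFounded_lt (α := Subgroup X))
    {M : Subgroup X | M.Normal ∧ scal ρ < M ∧ M ≤ derivedSeries X (k + 1) ⊔ scal ρ}
    ⟨_, inferInstance, right_lt_sup.2 hcon, le_rfl⟩
  have hmin : ∀ N : Subgroup X, N.Normal → scal ρ < N → N ≤ M → N = M := fun N hN h1 h2 =>
    eq_of_le_of_not_lt h2 (hmin' N ⟨hN, h1, h2.trans hMD⟩)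
  have hcomm : ⁅M, M⁆ ≤ scal ρ := by
    by_contra h
    have h1 := hmin (⁅M, M⁆ ⊔ scal ρ) inferInstance (right_lt_sup.2 h)
      (sup_le (Subgroup.commutator_le_left _ _) hZM.le)
    let π := QuotientGroup.mk' (scal ρ)
    have h2 : M.map π ≠ ⊥ := by
      rw [Ne, Subgroup.map_eq_bot_iff, QuotientGroup.ker_mk']
      exact hZM.not_ge
    have h3 := Group.IsSolvable.commutator_lt_of_ne_bot h2
    have h4 : (scal ρ).map π = ⊥ := by rw [Subgroup.map_eq_bot_iff, QuotientGroup.ker_mk']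
    rw [← Subgroup.map_commutator, ← sup_bot_eq (Subgroup.map π ⁅M, M⁆), ← h4, ← Subgroup.map_sup, h1] at h3
    exact lt_irrefl _ h3
  have hnc : ¬ ∀ a ∈ M, ∀ b ∈ M, ρ a * ρ b = ρ b * ρ a := fun h => hZM.not_ge (hp M hMn h)
  obtain ⟨E, i1, i2, i3, τ, hirr, hτ, hτe, hτm, hτc⟩ := Wt.exists_mod' (scal ρ) M hZM hmin hcomm
  choose σ hσ using hτ
  have h1 : ∀ u w : E, ∃ a : K, Tw ρ a (σ u : X) (σ w) := fun u w =>
    Tw.of_commutator (hcomm (Subgroup.commutator_mem_commutator (σ u).2 (σ w).2))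
  choose f hf using h1
  have h2 : ∀ a b : M, Tw ρ (f (τ a) (τ b)) (a : X) b := by
    intro a b
    have h3 := ((hf (τ a) (τ b)).mul_left (Tw.scal_left ((hτe _ a).1 (hσ _)) _)).mul_right
      (Tw.scal_right ((hτe _ b).1 (hσ _)) _)
    rwa [mul_inv_cancel_left, mul_inv_cancel_left, mul_one, mul_one] at h3
  have halt : Alt f := by
    refine ⟨fun u w w' => ?_, fun u u' w => ?_, fun u => (hf u u).unique (Tw.self _)⟩
    · have h3 := h2 (σ u) (σ w * σ w')
      rw [hτm, hσ, hσ, hσ] at h3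
      exact h3.unique ((hf u w).mul_right (hf u w'))
    · have h3 := h2 (σ u * σ u') (σ w)
      rw [hτm, hσ, hσ, hσ] at h3
      exact h3.unique ((hf u w).mul_left (hf u' w))
  have hinv : ∀ (g : X) u w, f (g • u) (g • w) = f u w := by
    intro g u w
    have h3 := h2 ⟨g * σ u * g⁻¹, hMn.conj_mem _ (σ u).2 g⟩ ⟨g * σ w * g⁻¹, hMn.conj_mem _ (σ w).2 g⟩
    rw [hτc, hτc, hσ, hσ] at h3
    exact h3.unique ((hf u w).conj g)
  obtain ⟨a, b, hab⟩ : ∃ a b, f a b ≠ 1 := by
    by_contra h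
    push Not at h
    refine hnc fun a ha b hb => ?_
    have h3 := h2 ⟨a, ha⟩ ⟨b, hb⟩
    rw [h] at h3
    exact Tw.one_iff.1 h3
  have hn : ∀ u, (∀ w, f u w = 1) → u = 0 := by
    intro u hu
    rcases hirr.irr (halt.perp Set.univ) (fun g x hx w _ => by
      rw [← smul_inv_smul g w, hinv]
      exact hx _ trivial) with h | h
    · rw [← AddSubgroup.mem_bot, ← h]
      exact fun w _ => halt.symm (hu w)
    · have h3 : b ∈ halt.perp Set.univ := by rw [h]; trivial
      exact absurd (h3 a trivial) hab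
  obtain ⟨t, ht1, ht2, ht3⟩ := halt.card_le hn (fun u => ρ (σ u)) (fun u => rho_injective _) hf
  obtain ⟨q, hq, hqx⟩ := hirr.exists_prime
  have := Fact.mk hq
  obtain ⟨j, hj⟩ : ∃ j, Nat.card E = q ^ j := by
    have h3 : IsPGroup q (Multiplicative E) := fun x => ⟨1, by
      rw [pow_one]
      exact hqx x.toAdd⟩
    exact (IsPGroup.iff_card (G := Multiplicative E)).1 h3
  rw [hj] at ht2 ht3
  obtain ⟨s, -, rfl⟩ := (Nat.dvd_prime_pow hq).1 ht2
  rw [← pow_add, Nat.pow_le_pow_iff_right hq.one_lt] at ht3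
  have h3 := hβ X E hirr q j s hq hj (by omega) ht1 fun h9 => halt.card_le_24 h9 hab Wt.range_faithful (by
    rintro ⟨_, g, rfl⟩ u w
    exact hinv g u w)
  have h4 : ∀ c ∈ derivedSeries X k, ∀ m ∈ M, ∃ a : K, Tw ρ a c m := by
    intro c hc m hm
    refine Tw.of_commutator ?_
    have h5 := h3 c (by rwa [Wt.dser_top]) (τ ⟨m, hm⟩)
    rw [← hτc, hτe] at h5
    have h6 := (scal_normal ρ).conj_mem _ ((scal ρ).inv_mem h5) m
    convert h6 using 1
    simp only [commutatorElement_def]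
    group
  refine hnc fun x hx m hm => ?_
  have h5 : derivedSeries X (k + 1) ⊔ scal ρ ≤ cm ρ m := by
    refine sup_le ?_ fun z hz => Tw.one_iff.1 (Tw.scal_left hz m)
    rw [derivedSeries_succ, Subgroup.commutator_le]
    intro c hc d hd
    obtain ⟨α, hα⟩ := h4 c hc m hm
    obtain ⟨β, hβ'⟩ := h4 d hd m hm
    have h6 := (hα.mul_left hβ').div (by rw [mul_comm]; exact hβ'.mul_left hα)
    rwa [mul_inv_rev, ← mul_assoc] at h6
  exact h5 (hMD hx)

theorem beta_of {n k : ℕ} (h : ∀ q s, q.Prime → q ^ s ≤ n → 1 ≤ s → (q = 3 ∧ s = 1 ∧ 3 ≤ k) ∨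
    ∃ r, 2 * s ≤ r ∧ (∀ j ≤ r, Ord.glN q j ∣ Ord.glN q r) ∧ Ord.okT Ord.tabAL q r (Ord.glN q r) k = true) : Beta n k := by
  intro X E _ _ _ _ _ _ hirr q j s hq hc hj hs h24
  have h1 := Ord.exp_pos hirr hc
  have h2 := Ord.card_im_dvd_gl hirr hq hc
  rcases h q s hq hs (by omega) with ⟨rfl, rfl, h3⟩ | ⟨r, h3, h4, h5⟩
  · have h4 := h24 (by rw [hc]; exact pow_dvd_pow 3 hj)
    have h5 : Nat.card (Wt.Im X E) ∣ 48 := by
      refine h2.trans ?_
      interval_cases j <;> decide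
    have h6 : Nat.card (Wt.Im X E) ∣ 24 ∨ Nat.card (Wt.Im X E) ∣ 16 := by
      generalize Nat.card (Wt.Im X E) = c at h4 h5
      interval_cases c <;> omega
    rcases h6 with h6 | h6
    · exact (Ord.tabA_valid.dl X E hirr hq hj hc h6 (e := 3) (by decide +kernel)).mono h3
    · exact (Ord.tabA_valid.dl X E hirr hq hj hc h6 (e := 3) (by decide +kernel)).mono h3
  · exact Ord.tabA_valid.dl X E hirr hq (hj.trans h3) hc (h2.trans (h4 j (hj.trans h3))) h5

theorem small_pow {q s n : ℕ} (hq : q.Prime) (h : q ^ s ≤ n) (hn : n ≤ 8) (hs : 1 ≤ s) :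
    (q = 2 ∧ s ≤ 3) ∨ (q = 3 ∧ s = 1) ∨ (q = 5 ∧ s = 1) ∨ (q = 7 ∧ s = 1) := by
  have h1 : q ≤ 8 := (Nat.le_self_pow (by omega) q).trans (h.trans hn)
  have h2 : s ≤ 3 := by
    by_contra h3
    have h4 : 2 ^ 4 ≤ q ^ s := (Nat.pow_le_pow_left hq.two_le 4).trans (Nat.pow_le_pow_right hq.pos (by omega))
    omega
  have h3 := hq.two_le
  interval_cases q <;> first | (exfalso; revert hq; decide) | (interval_cases s <;> omega)

theorem beta_two : Beta 2 2 := beta_of fun q s hq h hs => by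
  rcases small_pow hq h (by norm_num) hs with ⟨rfl, h1⟩ | ⟨rfl, rfl⟩ | ⟨rfl, rfl⟩ | ⟨rfl, rfl⟩
  · exact Or.inr ⟨2, by interval_cases s <;> omega, by decide +kernel, by decide +kernel⟩
  all_goals omega

theorem beta_four : Beta 4 3 := beta_of fun q s hq h hs => by
  rcases small_pow hq h (by norm_num) hs with ⟨rfl, h1⟩ | ⟨rfl, rfl⟩ | ⟨rfl, rfl⟩ | ⟨rfl, rfl⟩
  · exact Or.inr ⟨4, by interval_cases s <;> omega, by decide +kernel, by decide +kernel⟩
  · exact Or.inl ⟨rfl, rfl, le_rfl⟩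
  all_goals omega

theorem beta_seven : Beta 7 4 := beta_of fun q s hq h hs => by
  rcases small_pow hq h (by norm_num) hs with ⟨rfl, h1⟩ | ⟨rfl, rfl⟩ | ⟨rfl, rfl⟩ | ⟨rfl, rfl⟩
  · exact Or.inr ⟨4, by interval_cases s <;> omega, by decide +kernel, by decide +kernel⟩
  · exact Or.inl ⟨rfl, rfl, by norm_num⟩
  · exact Or.inr ⟨2, le_rfl, by decide +kernel, by decide +kernel⟩
  · exact Or.inr ⟨2, le_rfl, by decide +kernel, by decide +kernel⟩

theorem beta_eight : Beta 8 6 := beta_of fun q s hq h hs => by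
  rcases small_pow hq h (by norm_num) hs with ⟨rfl, h1⟩ | ⟨rfl, rfl⟩ | ⟨rfl, rfl⟩ | ⟨rfl, rfl⟩
  · exact Or.inr ⟨6, by omega, by decide +kernel, by decide +kernel⟩
  · exact Or.inl ⟨rfl, rfl, by norm_num⟩
  · exact Or.inr ⟨2, le_rfl, by decide +kernel, by decide +kernel⟩
  · exact Or.inr ⟨2, le_rfl, by decide +kernel, by decide +kernel⟩

theorem Beta.mono {n k n' m : ℕ} (h : Beta n k) (hn : n' ≤ n) (hm : k ≤ m) : Beta n' m :=
  fun X E _ _ _ _ _ _ hirr q j s hq hc hj hs h24 => (h X E hirr q j s hq hc hj (hs.trans hn) h24).mono hm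

end Cfsg.Agent.DS.Lin
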